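import Mathlib
import Cfsg.Agent.Lib.Helper44.FW.Defs

/-!
# Project FW (S3211): package [PHI]

A square root `r` of `t₀ = x₀ (n x₀ n⁻¹)` in `C(j) ∩ C(t₀)` outside `L₁L₂` gives the square
root `r x₀` of `j`, different from `n`.
-/

set_option autoImplicit false

namespace Cfsg.Agent.Lib.Helper93.FW

open Cfsg.Agent.Lib.Helper44.FW

universe u

/-- elements of the join of two elementwise commuting subgroups are products -/
theorem phi_sup_decomp {G : Type u} [Group G] (L₁ L₂ : Subgroup G)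
    (hc : ∀ x ∈ L₁, ∀ y ∈ L₂, x * y = y * x) :
    ∀ w ∈ L₁ ⊔ L₂, ∃ a ∈ L₁, ∃ b ∈ L₂, w = a * b := by
  intro w hw
  rw [Subgroup.sup_eq_closure] at hw
  induction hw using Subgroup.closure_induction with
  | mem x hx =>
    rcases hx with hx | hx
    · exact ⟨x, hx, 1, L₂.one_mem, (mul_one x).symm⟩
    · exact ⟨1, L₁.one_mem, x, hx, (one_mul x).symm⟩
  | one => exact ⟨1, L₁.one_mem, 1, L₂.one_mem, (mul_one 1).symm⟩
  | mul x y _ _ hx hy =>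
    obtain ⟨a, ha, b, hb, rfl⟩ := hx
    obtain ⟨a', ha', b', hb', rfl⟩ := hy
    refine ⟨a * a', L₁.mul_mem ha ha', b * b', L₂.mul_mem hb hb', ?_⟩
    have hcc := hc a' ha' b hb
    calc a * b * (a' * b') = a * (b * a') * b' := by group
      _ = a * (a' * b) * b' := by rw [hcc]
      _ = a * a' * (b * b') := by group
  | inv x _ hx =>
    obtain ⟨a, ha, b, hb, rfl⟩ := hx
    refine ⟨a⁻¹, L₁.inv_mem ha, b⁻¹, L₂.inv_mem hb, ?_⟩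
    have hcc := hc a ha b hb
    rw [hcc, mul_inv_rev]

/-- [PHI] -/
theorem pkgPhi : PkgPhi.{u} := by
  intro G _ L₁ L₂ j n h hInv x₀ hx₀ hx₀sq r hrC hrY hrt hr2
  -- basic facts
  have hj2 : j * j = 1 := by
    have h1 := pow_orderOf_eq_one j
    rw [h.ord, pow_two] at h1
    exact h1
  have hj1 : j ≠ 1 := by
    intro hj
    have h1 := h.ord
    rw [hj, orderOf_one] at h1
    exact absurd h1 (by norm_num)
  have hjinv : j⁻¹ = j := inv_eq_of_mul_eq_one_right hj2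
  have hjmem : j ∈ L₁ ⊓ L₂ := by
    rw [h.meet]; exact Subgroup.mem_zpowers j
  have hjL1 : j ∈ L₁ := hjmem.1
  have hz : ∀ d ∈ Subgroup.zpowers j, d = 1 ∨ d = j := by
    intro d hd
    obtain ⟨k, rfl⟩ := Subgroup.mem_zpowers_iff.mp hd
    have hk : j ^ (k % 2) = j ^ k := by
      have h1 := zpow_mod_orderOf j k
      rw [h.ord] at h1
      exact_mod_cast h1
    rcases Int.emod_two_eq_zero_or_one k with h0 | h0
    · left; rw [← hk, h0, zpow_zero]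
    · right; rw [← hk, h0, zpow_one]
  have hYC : ∀ x ∈ L₁ ⊔ L₂, x * j = j * x := fun x hx =>
    Subgroup.mem_centralizer_singleton_iff.mp (h.le hx)
  have hnj : n * j = j * n := Subgroup.mem_centralizer_singleton_iff.mp h.hn
  have hx₀Y : x₀ ∈ L₁ ⊔ L₂ := (le_sup_left : L₁ ≤ L₁ ⊔ L₂) hx₀
  have hjY : j ∈ L₁ ⊔ L₂ := (le_sup_left : L₁ ≤ L₁ ⊔ L₂) hjL1
  have hx₀j : x₀ * j = j * x₀ := hYC x₀ hx₀Y
  have hnn : n * n = j := by rw [← pow_two]; exact h.hn2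
  have hxx : x₀ * x₀ = j := by rw [← pow_two]; exact hx₀sq
  have hninv : n⁻¹ = n * j := by
    apply inv_eq_of_mul_eq_one_right
    rw [← mul_assoc, hnn, hj2]
  -- y₀
  obtain ⟨y₀, hy₀⟩ : ∃ y₀, y₀ = n * x₀ * n⁻¹ := ⟨_, rfl⟩
  rw [← hy₀] at hrt hr2
  have hy₀L : y₀ ∈ L₂ := by
    rw [← h.swap, hy₀]
    exact Subgroup.mem_map.mpr ⟨x₀, hx₀, by simp [MulAut.conj_apply]⟩
  have hy₀Y : y₀ ∈ L₁ ⊔ L₂ := (le_sup_right : L₂ ≤ L₁ ⊔ L₂) hy₀L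
  have hy₀j : y₀ * j = j * y₀ := hYC y₀ hy₀Y
  have hyy : y₀ * y₀ = j := by
    rw [hy₀]
    calc n * x₀ * n⁻¹ * (n * x₀ * n⁻¹) = n * (x₀ * x₀) * n⁻¹ := by group
      _ = n * j * n⁻¹ := by rw [hxx]
      _ = j := by rw [hnj, mul_assoc, mul_inv_cancel, mul_one]
  have hxy : x₀ * y₀ = y₀ * x₀ := h.comm x₀ hx₀ y₀ hy₀L
  have hF2 : n⁻¹ * x₀ * n = y₀ := by
    calc n⁻¹ * x₀ * n = n * j * x₀ * n := by rw [hninv]
      _ = n * (j * x₀) * n := by group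
      _ = n * (x₀ * j) * n := by rw [hx₀j]
      _ = n * x₀ * (j * n) := by group
      _ = n * x₀ * (n * j) := by rw [hnj]
      _ = n * x₀ * n⁻¹ := by rw [← hninv]
      _ = y₀ := hy₀.symm
  have hF3 : n⁻¹ * y₀ * n = x₀ := by
    rw [hy₀]; group
  -- n ∉ Y
  have hnY : n ∉ L₁ ⊔ L₂ := by
    intro hn
    obtain ⟨a, ha, b, hb, hab⟩ := phi_sup_decomp L₁ L₂ h.comm n hn
    have hy₀L1 : y₀ ∈ L₁ := by
      have h1 : y₀ = a * x₀ * a⁻¹ := by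
        rw [hy₀, hab]
        have hbx := h.comm x₀ hx₀ b hb
        calc a * b * x₀ * (a * b)⁻¹ = a * (b * x₀) * b⁻¹ * a⁻¹ := by group
          _ = a * (x₀ * b) * b⁻¹ * a⁻¹ := by rw [hbx]
          _ = a * x₀ * a⁻¹ := by group
      rw [h1]
      exact L₁.mul_mem (L₁.mul_mem ha hx₀) (L₁.inv_mem ha)
    have h2 : y₀ ∈ L₁ ⊓ L₂ := ⟨hy₀L1, hy₀L⟩
    rw [h.meet] at h2
    rcases hz y₀ h2 with h1 | h1
    · rw [h1, mul_one] at hyy; exact hj1 hyy.symm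
    · rw [h1, hj2] at hyy; exact hj1 hyy.symm
  -- index two
  have hidx : ∀ c₁ ∈ Subgroup.centralizer ({j} : Set G),
      ∀ c₂ ∈ Subgroup.centralizer ({j} : Set G),
      c₁ ∉ L₁ ⊔ L₂ → c₂ ∉ L₁ ⊔ L₂ → c₁ * c₂ ∈ L₁ ⊔ L₂ := by
    intro c₁ h1 c₂ h2 hn1 hn2
    have hi : ((L₁ ⊔ L₂).subgroupOf (Subgroup.centralizer ({j} : Set G))).index = 2 := h.idx
    have h3 := (Subgroup.mul_mem_iff_of_index_two hi (a := ⟨c₁, h1⟩) (b := ⟨c₂, h2⟩))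
    rw [Subgroup.mem_subgroupOf, Subgroup.mem_subgroupOf, Subgroup.mem_subgroupOf] at h3
    exact h3.mpr ⟨fun hh => absurd hh hn1, fun hh => absurd hh hn2⟩
  have hw : n⁻¹ * r ∈ L₁ ⊔ L₂ :=
    hidx n⁻¹ (Subgroup.inv_mem _ h.hn) r hrC
      (fun hh => hnY ((Subgroup.inv_mem_iff _).mp hh)) hrY
  obtain ⟨a, ha, b, hb, hab⟩ := phi_sup_decomp L₁ L₂ h.comm _ hw
  have hr : r = n * (a * b) := by rw [← hab]; group
  -- the conjugates of x₀ and y₀ under r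
  obtain ⟨P, hPdef⟩ : ∃ P, P = r⁻¹ * x₀ * r := ⟨_, rfl⟩
  obtain ⟨Q, hQdef⟩ : ∃ Q, Q = r⁻¹ * y₀ * r := ⟨_, rfl⟩
  have hP : P = b⁻¹ * y₀ * b := by
    rw [hPdef, hr]
    have hay := h.comm a ha y₀ hy₀L
    calc (n * (a * b))⁻¹ * x₀ * (n * (a * b)) = b⁻¹ * a⁻¹ * (n⁻¹ * x₀ * n) * a * b := by group
      _ = b⁻¹ * a⁻¹ * y₀ * a * b := by rw [hF2]
      _ = b⁻¹ * a⁻¹ * (y₀ * a) * b := by group
      _ = b⁻¹ * a⁻¹ * (a * y₀) * b := by rw [hay]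
      _ = b⁻¹ * y₀ * b := by group
  have hQ : Q = a⁻¹ * x₀ * a := by
    rw [hQdef, hr]
    have hxb := h.comm (a⁻¹ * x₀ * a) (L₁.mul_mem (L₁.mul_mem (L₁.inv_mem ha) hx₀) ha) b hb
    calc (n * (a * b))⁻¹ * y₀ * (n * (a * b)) = b⁻¹ * (a⁻¹ * (n⁻¹ * y₀ * n) * a) * b := by group
      _ = b⁻¹ * (a⁻¹ * x₀ * a) * b := by rw [hF3]
      _ = b⁻¹ * ((a⁻¹ * x₀ * a) * b) := by group
      _ = b⁻¹ * (b * (a⁻¹ * x₀ * a)) := by rw [hxb]
      _ = a⁻¹ * x₀ * a := by group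
  have hPL : P ∈ L₂ := by
    rw [hP]; exact L₂.mul_mem (L₂.mul_mem (L₂.inv_mem hb) hy₀L) hb
  have hQL : Q ∈ L₁ := by
    rw [hQ]; exact L₁.mul_mem (L₁.mul_mem (L₁.inv_mem ha) hx₀) ha
  have hPQ : P * Q = x₀ * y₀ := by
    rw [hPdef, hQdef]
    calc (r⁻¹ * x₀ * r) * (r⁻¹ * y₀ * r) = r⁻¹ * (x₀ * y₀ * r) := by group
      _ = r⁻¹ * (r * (x₀ * y₀)) := by rw [hrt]
      _ = x₀ * y₀ := by group
  have hQP : Q * P = x₀ * y₀ := by rw [h.comm Q hQL P hPL]; exact hPQ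
  obtain ⟨δ, hδ⟩ : ∃ δ, δ = x₀⁻¹ * Q := ⟨_, rfl⟩
  have hδ' : δ = y₀ * P⁻¹ := by
    rw [hδ]
    calc x₀⁻¹ * Q = x₀⁻¹ * (Q * P) * P⁻¹ := by group
      _ = x₀⁻¹ * (x₀ * y₀) * P⁻¹ := by rw [hQP]
      _ = y₀ * P⁻¹ := by group
  have hδmem : δ ∈ L₁ ⊓ L₂ := by
    refine ⟨?_, ?_⟩
    · rw [hδ]; exact L₁.mul_mem (L₁.inv_mem hx₀) hQL
    · rw [hδ']; exact L₂.mul_mem hy₀L (L₂.inv_mem hPL)
  rw [h.meet] at hδmem
  have hPδ : P = δ⁻¹ * y₀ := by rw [hδ']; group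
  have hsq : (r * x₀) ^ 2 = x₀ * y₀ * P * x₀ := by
    calc (r * x₀) ^ 2 = r ^ 2 * (r⁻¹ * x₀ * r) * x₀ := by rw [pow_two, pow_two]; group
      _ = x₀ * y₀ * P * x₀ := by rw [hr2, ← hPdef]
  have hrxC : r * x₀ ∈ Subgroup.centralizer ({j} : Set G) :=
    Subgroup.mul_mem _ hrC (h.le hx₀Y)
  have hrxY : r * x₀ ∉ L₁ ⊔ L₂ := by
    intro hh
    apply hrY
    have h1 : r = r * x₀ * x₀⁻¹ := by group
    rw [h1]
    exact Subgroup.mul_mem _ hh (Subgroup.inv_mem _ hx₀Y)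
  rcases hz δ hδmem with h1 | h1
  · -- δ = 1 : an involution of C(j) outside Y
    exfalso
    rw [h1, inv_one, one_mul] at hPδ
    have hsq1 : (r * x₀) ^ 2 = 1 := by
      rw [hsq, hPδ]
      calc x₀ * y₀ * y₀ * x₀ = x₀ * (y₀ * y₀) * x₀ := by group
        _ = x₀ * j * x₀ := by rw [hyy]
        _ = j * x₀ * x₀ := by rw [hx₀j]
        _ = j * (x₀ * x₀) := by group
        _ = 1 := by rw [hxx, hj2]
    have hne1 : r * x₀ ≠ 1 := by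
      intro hh; apply hrxY; rw [hh]; exact Subgroup.one_mem _
    have hnej : r * x₀ ≠ j := by
      intro hh; apply hrxY; rw [hh]; exact hjY
    obtain ⟨x, hx, y, hy, hxyr, -, -⟩ := hInv (r * x₀) hrxC hsq1 hne1 hnej
    apply hrxY
    rw [hxyr]
    exact Subgroup.mul_mem _ ((le_sup_left : L₁ ≤ L₁ ⊔ L₂) hx) ((le_sup_right : L₂ ≤ L₁ ⊔ L₂) hy)
  · -- δ = j
    rw [h1, hjinv] at hPδ
    refine ⟨?_, ?_⟩
    · rw [hsq, hPδ]
      calc x₀ * y₀ * (j * y₀) * x₀ = x₀ * (y₀ * j) * y₀ * x₀ := by group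
        _ = x₀ * (j * y₀) * y₀ * x₀ := by rw [hy₀j]
        _ = x₀ * j * (y₀ * y₀) * x₀ := by group
        _ = x₀ * j * j * x₀ := by rw [hyy]
        _ = x₀ * (j * j) * x₀ := by group
        _ = x₀ * x₀ := by rw [hj2, mul_one]
        _ = j := hxx
    · intro hrx
      have hr' : r = n * x₀⁻¹ := by rw [← hrx]; group
      have h2 : P = y₀ := by
        rw [hPdef, hr']
        calc (n * x₀⁻¹)⁻¹ * x₀ * (n * x₀⁻¹) = x₀ * (n⁻¹ * x₀ * n) * x₀⁻¹ := by group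
          _ = x₀ * y₀ * x₀⁻¹ := by rw [hF2]
          _ = y₀ * x₀ * x₀⁻¹ := by rw [hxy]
          _ = y₀ := by group
      rw [hPδ] at h2
      have h3 : j = 1 := by
        have h4 : j * y₀ = 1 * y₀ := by rw [one_mul]; exact h2
        exact mul_right_cancel h4
      exact hj1 h3

end Cfsg.Agent.Lib.Helper93.FW
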